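import Groth.Agent.L15.LocPres.QcTopos
import Groth.Agent.L15.ModTensor.RestrDerived
import Mathlib.CategoryTheory.Abelian.Refinements
import Mathlib.CategoryTheory.Limits.Shapes.Products

/-! Modules finitely presented by free modules on the objects of a quasi-compact generating family. -/

set_option autoImplicit false
set_option backward.isDefEq.respectTransparency false

universe u

open CategoryTheory CategoryTheory.Limits Opposite

noncomputable section

namespace Groth.L15.FPFree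

open Groth.L15.FlatCrit Groth.L15.LocPres Groth.L15.PullFlat

variable {C : Type u} [SmallCategory C] {J : GrothendieckTopology C} {O : Sheaf J CommRingCat.{u}}

variable (O) in
/-- The free module on an object. -/
abbrev fOn (U : C) : ModSite.Mod O := ModSite.freeOn O U

/-- Maps out of free modules as sections. -/
abbrev secA {U : C} {M : ModSite.Mod O} : (fOn O U ⟶ M) ≃+ ModSite.sect M U := Groth.L15.ModTensor.freeSecAdd O U M

theorem secA_comp {U : C} {M N : ModSite.Mod O} (a : fOn O U ⟶ M) (φ : M ⟶ N) : secA (a ≫ φ) = ap φ (secA a) :=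
  Groth.L10.FreeOn.sec_comp O U a φ

/-- The canonical generator. -/
abbrev gen (U : C) : ModSite.sect (fOn O U) U := secA (𝟙 (fOn O U))

theorem secA_eq {U : C} {M : ModSite.Mod O} (a : fOn O U ⟶ M) : secA a = ap a (gen U) := by
  rw [← secA_comp, Category.id_comp]

/-- The map of free modules given by an arrow. -/
def resMap {W U : C} (g : W ⟶ U) : fOn O W ⟶ fOn O U := secA.symm (rs (fOn O U) g (gen U))

theorem secA_resMap {W U : C} (g : W ⟶ U) {M : ModSite.Mod O} (a : fOn O U ⟶ M) :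
    secA (resMap g ≫ a) = rs M g (secA a) := by
  rw [secA_comp, resMap, AddEquiv.apply_symm_apply, secA_eq a, rs_ap]

variable (O) in
/-- Coproducts of free modules. -/
abbrev Fr {I : Type u} (U : I → C) : ModSite.Mod O := ∐ fun i => fOn O (U i)

theorem fr_hom_ext {I : Type u} {U : I → C} {M : ModSite.Mod O} (a b : Fr O U ⟶ M)
    (h : ∀ i, secA (Sigma.ι (fun i => fOn O (U i)) i ≫ a) = secA (Sigma.ι (fun i => fOn O (U i)) i ≫ b)) : a = b :=
  Sigma.hom_ext _ _ fun i => secA.injective (h i)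

section Qc

variable (B : Set C)

/-- Every object is covered by members of `B`. -/
abbrev Gens (J : GrothendieckTopology C) (B : Set C) : Prop :=
  ∀ X : C, ∃ (κ : Type u) (Y : κ → C) (g : ∀ k, Y k ⟶ X), Sieve.ofArrows Y g ∈ J X ∧ ∀ k, Y k ∈ B

/-- The representable sheaf is quasi-compact. -/
abbrev QcObj (J : GrothendieckTopology C) (U : C) : Prop :=
  CohCx.IsQcObject ((presheafToSheaf J (Type u)).obj (yoneda.obj U))

variable {B}

theorem exists_finite_cover (hB : Gens J B) {U : C} (hU : QcObj J U) (S : Sieve U) (hS : S ∈ J U) :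
    ∃ (K : Type u) (_ : Finite K) (W : K → C) (h : ∀ k, W k ⟶ U),
      (∀ k, W k ∈ B) ∧ (∀ k, S (h k)) ∧ Sieve.ofArrows W h ∈ J U := by
  let η : yoneda.obj U ⟶ ((presheafToSheaf J (Type u)).obj (yoneda.obj U)).obj :=
    CategoryTheory.toSheafify J (yoneda.obj U)
  obtain ⟨T, hT, V, κ, hgood, hcov⟩ := qc_elem _ hU
    (fun W κ => ∃ (Z : C) (a : W ⟶ Z) (h : Z ⟶ U), Z ∈ B ∧ S h ∧ η.app (op W) (a ≫ h) = κ) (fun V κ => by
      refine exists_sieve_bind _ (Presheaf.imageSieve_mem J η (U := op V) κ) fun V₁ g hg => ?_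
      obtain ⟨h, hh⟩ := hg
      refine exists_sieve_bind _ (J.pullback_stable h hS) fun V₂ r hr => ?_
      obtain ⟨ι, Y, y, hy, hyB⟩ := hB V₂
      refine ⟨_, hy, fun V₃ e he => ?_⟩
      rw [Sieve.ofArrows, Sieve.generate_apply] at he
      obtain ⟨Z, a, f, ⟨k⟩, rfl⟩ := he
      refine ⟨_, a, (y k ≫ r) ≫ h, hyB k, ?_, ?_⟩
      · rw [Category.assoc]
        exact S.downward_closed hr _
      · rw [← Category.assoc a, ← Category.assoc a]
        refine (NatTrans.naturality_apply η ((a ≫ y k) ≫ r).op h).trans ?_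
        rw [hh]
        simp only [op_comp, Functor.map_comp]
        rfl)
  choose Z a h hVB hSh hκ using hgood
  refine ⟨T, hT, Z, h, hVB, hSh, ?_⟩
  obtain ⟨S₀, hS₀, hd⟩ := hcov U (η.app (op U) (𝟙 U))
  refine J.transitive hS₀ _ fun W g hg => ?_
  obtain ⟨i, e, he⟩ := hd g hg
  let l : (yoneda.obj U).obj (op W) := e ≫ a i ≫ h i
  let g' : (yoneda.obj U).obj (op W) := g
  have heq : η.app (op W) l = η.app (op W) g' := by
    have h1 := NatTrans.naturality_apply η e.op (a i ≫ h i : (yoneda.obj U).obj (op (V i)))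
    have h2 := NatTrans.naturality_apply η g.op (𝟙 U : (yoneda.obj U).obj (op U))
    rw [hκ i] at h1
    exact (h1.trans (he.trans h2.symm)).trans (congrArg (η.app (op W)) (Category.comp_id g))
  refine J.superset_covering (fun W' r hr => ?_) (Presheaf.equalizerSieve_mem J η (X := op W) l g' heq)
  show Sieve.ofArrows Z h (r ≫ g)
  rw [show r ≫ g = (r ≫ e ≫ a i) ≫ h i from (show r ≫ (e ≫ a i ≫ h i) = r ≫ g from hr).symm.trans
    (by simp only [Category.assoc])]
  exact Sieve.downward_closed _ (Sieve.ofArrows_mk Z h i) _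

variable (J B) in
/-- Finite coverings of the members of a finite family by members of `B`. -/
structure Cov {I : Type u} (U : I → C) where
  /-- indices -/
  K : I → Type u
  fin : ∀ i, Finite (K i)
  /-- members -/
  W : ∀ i, K i → C
  /-- maps -/
  h : ∀ i k, W i k ⟶ U i
  mem : ∀ i k, W i k ∈ B
  cover : ∀ i, Sieve.ofArrows (W i) (h i) ∈ J (U i)

variable {I : Type u} {U : I → C}

/-- All members of a covering. -/
abbrev Cov.flat (c : Cov J B U) : (Σ i, c.K i) → C := fun x => c.W x.1 x.2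

variable (O) in
/-- The covering map. -/
def Cov.q (c : Cov J B U) : Fr O c.flat ⟶ Fr O U :=
  Sigma.desc fun x => resMap (c.h x.1 x.2) ≫ Sigma.ι (fun i => fOn O (U i)) x.1

theorem Cov.secA_q (c : Cov J B U) {M : ModSite.Mod O} (a : Fr O U ⟶ M) (x : Σ i, c.K i) :
    secA (Sigma.ι (fun y => fOn O (c.flat y)) x ≫ c.q O ≫ a) =
      rs M (c.h x.1 x.2) (secA (Sigma.ι (fun i => fOn O (U i)) x.1 ≫ a)) := by
  rw [← secA_resMap, Cov.q, Sigma.ι_desc_assoc, Category.assoc]

instance Cov.epi_q (c : Cov J B U) : Epi (c.q O) where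
  left_cancellation {M} a b hab := fr_hom_ext a b fun i => by
    refine Groth.L15.ExtSupp.sect_ext M _ (c.cover i) _ _ fun W g hg => ?_
    rw [Sieve.ofArrows, Sieve.generate_apply] at hg
    obtain ⟨Y, e, f, ⟨k⟩, rfl⟩ := hg
    show rs M (e ≫ c.h i k) _ = rs M (e ≫ c.h i k) _
    rw [← rs_rs, ← rs_rs, ← Cov.secA_q c a ⟨i, k⟩, ← Cov.secA_q c b ⟨i, k⟩, hab]

/-- Epimorphisms are locally surjective on sections. -/
theorem exists_local_lift {A M : ModSite.Mod O} (p : A ⟶ M) [Epi p] {V : C} (x : ModSite.sect M V) :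
    ∃ S ∈ J V, ∀ ⦃W : C⦄ (g : W ⟶ V), S g → ∃ y, ap p y = rs M g x := by
  haveI := Groth.L15.KFlatSite.preservesColimits_toSheaf (ModSite.ringSh O)
  haveI : Sheaf.IsLocallySurjective ((SheafOfModules.toSheaf.{u} _).map p) :=
    (Sheaf.isLocallySurjective_iff_epi' _ _).2 inferInstance
  exact ⟨_, Presheaf.imageSieve_mem J ((SheafOfModules.toSheaf.{u} _).map p).hom (U := op V) x, fun W g hg => by
    obtain ⟨y, hy⟩ := hg
    exact ⟨y, hy⟩⟩

/-- Maps out of finite sums of free modules lift along epimorphisms after a finite covering. -/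
theorem exists_cov_lift (hB : Gens J B) (hU : ∀ i, QcObj J (U i)) {A M : ModSite.Mod O} (p : A ⟶ M) [Epi p]
    (a : Fr O U ⟶ M) : ∃ (c : Cov J B U) (l : Fr O c.flat ⟶ A), l ≫ p = c.q O ≫ a := by
  choose S hS hd using fun i => exists_local_lift p (secA (Sigma.ι (fun i => fOn O (U i)) i ≫ a))
  choose K fK W h hWB hSh hcov using fun i => exists_finite_cover hB (hU i) (S i) (hS i)
  let c : Cov J B U := ⟨K, fK, W, h, hWB, hcov⟩
  choose y hy using fun x : (Σ i, c.K i) => hd x.1 (c.h x.1 x.2) (hSh x.1 x.2)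
  refine ⟨c, Sigma.desc fun x => secA.symm (y x), fr_hom_ext _ _ fun x => ?_⟩
  rw [Cov.secA_q, Sigma.ι_desc_assoc, secA_comp, AddEquiv.apply_symm_apply, hy]

end Qc

section Pres

/-- A cokernel diagram. -/
structure IsCok {R G F : ModSite.Mod O} (r : R ⟶ G) (p : G ⟶ F) : Prop where
  w : r ≫ p = 0
  epi : Epi p
  desc : ∀ ⦃M : ModSite.Mod O⦄ (a : G ⟶ M), r ≫ a = 0 → ∃ b : F ⟶ M, p ≫ b = a

theorem isCok_cokernel {R G : ModSite.Mod O} (r : R ⟶ G) : IsCok r (cokernel.π r) :=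
  ⟨cokernel.condition r, inferInstance, fun _ a h => ⟨cokernel.desc r a h, cokernel.π_desc r a h⟩⟩

theorem IsCok.nonempty_iso {R G F : ModSite.Mod O} {r : R ⟶ G} {p : G ⟶ F} (h : IsCok r p) :
    Nonempty (F ≅ cokernel r) := by
  obtain ⟨b, hb⟩ := h.desc (cokernel.π r) (cokernel.condition r)
  haveI := h.epi
  refine ⟨⟨b, cokernel.desc r p h.w, ?_, ?_⟩⟩
  · rw [← cancel_epi p, reassoc_of% hb, cokernel.π_desc, Category.comp_id]
  · rw [← cancel_epi (cokernel.π r), cokernel.π_desc_assoc, hb, Category.comp_id]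

theorem IsCok.comp_iso {R G F F' : ModSite.Mod O} {r : R ⟶ G} {p : G ⟶ F} (h : IsCok r p) (e : F ≅ F') :
    IsCok r (p ≫ e.hom) := by
  haveI := h.epi
  refine ⟨by rw [← Category.assoc, h.w, zero_comp], inferInstance, fun M a ha => ?_⟩
  obtain ⟨b, hb⟩ := h.desc a ha
  exact ⟨e.inv ≫ b, by rw [Category.assoc, e.hom_inv_id_assoc, hb]⟩

theorem IsCok.exact {R G F : ModSite.Mod O} {r : R ⟶ G} {p : G ⟶ F} (h : IsCok r p) :
    (ShortComplex.mk r p h.w).Exact := by
  haveI := h.epi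
  refine ShortComplex.exact_of_g_is_cokernel _ (CokernelCofork.IsColimit.ofπ p h.w
    (fun a ha => (h.desc a ha).choose) (fun a ha => (h.desc a ha).choose_spec) fun a ha m hm => ?_)
  rw [← cancel_epi p, (h.desc a ha).choose_spec, hm]

theorem IsCok.of_epi {R' R G F : ModSite.Mod O} {r : R ⟶ G} {p : G ⟶ F} (h : IsCok r p) (e : R' ⟶ R) [Epi e] :
    IsCok (e ≫ r) p :=
  ⟨by rw [Category.assoc, h.w, comp_zero], h.epi, fun M a ha => h.desc a (by rwa [← cancel_epi e, comp_zero, ← Category.assoc])⟩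

variable (B : Set C)

variable (O) in
/-- Finite sums of free modules on members of `B`, surjecting onto a module. -/
def IsFT (X : ModSite.Mod O) : Prop :=
  ∃ (I : Type u) (_ : Finite I) (U : I → C) (p : Fr O U ⟶ X), (∀ i, U i ∈ B) ∧ Epi p

variable (O) in
/-- Modules finitely presented by free modules on members of `B`. -/
def IsFP (F : ModSite.Mod O) : Prop :=
  ∃ (I R : Type u) (_ : Finite I) (_ : Finite R) (U : I → C) (V : R → C) (r : Fr O V ⟶ Fr O U) (p : Fr O U ⟶ F),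
    (∀ i, U i ∈ B) ∧ (∀ j, V j ∈ B) ∧ IsCok r p

variable {B}

theorem IsFP.isFT {F : ModSite.Mod O} (h : IsFP O B F) : IsFT O B F := by
  obtain ⟨I, R, hI, hR, U, V, r, p, hU, hV, hc⟩ := h
  exact ⟨I, hI, U, p, hU, hc.epi⟩

theorem IsFP.of_iso {F F' : ModSite.Mod O} (h : IsFP O B F) (e : F ≅ F') : IsFP O B F' := by
  obtain ⟨I, R, hI, hR, U, V, r, p, hU, hV, hc⟩ := h
  exact ⟨I, R, hI, hR, U, V, r, _, hU, hV, hc.comp_iso e⟩

theorem isFP_of_data {F : ModSite.Mod O} {m n : ℕ} {V : Fin m → C} {U : Fin n → C}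
    (ψ : (∐ fun j => ModSite.freeOn O (V j)) ⟶ ∐ fun i => ModSite.freeOn O (U i))
    (hV : ∀ j, V j ∈ B) (hU : ∀ i, U i ∈ B) (e : Nonempty (F ≅ cokernel ψ)) : IsFP O B F := by
  let eI : ULift.{u} (Fin n) ≃ Fin n := Equiv.ulift
  let eR : ULift.{u} (Fin m) ≃ Fin m := Equiv.ulift
  let iU : Fr O (fun i => U (eI i)) ≅ ∐ fun i => ModSite.freeOn O (U i) :=
    Sigma.whiskerEquiv (f := fun i => fOn O (U (eI i))) (g := fun i => ModSite.freeOn O (U i)) eI fun _ => Iso.refl _
  let iV : Fr O (fun j => V (eR j)) ≅ ∐ fun j => ModSite.freeOn O (V j) :=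
    Sigma.whiskerEquiv (f := fun j => fOn O (V (eR j))) (g := fun j => ModSite.freeOn O (V j)) eR fun _ => Iso.refl _
  obtain ⟨e⟩ := e
  have hc : IsCok ψ (cokernel.π ψ ≫ e.inv) := (isCok_cokernel ψ).comp_iso e.symm
  refine ⟨_, _, inferInstance, inferInstance, _, _, iV.hom ≫ ψ ≫ iU.inv, iU.hom ≫ cokernel.π ψ ≫ e.inv,
    fun i => hU _, fun j => hV _, ?_, ?_, ?_⟩
  · simp
  · haveI := hc.epi
    infer_instance
  · intro M a ha
    obtain ⟨b, hb⟩ := hc.desc (iU.inv ≫ a) (by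
      rw [← cancel_epi iV.hom, comp_zero]
      simpa only [Category.assoc] using ha)
    exact ⟨b, by rw [Category.assoc, hb, iU.hom_inv_id_assoc]⟩

theorem IsFP.exists_data {F : ModSite.Mod O} (h : IsFP O B F) :
    ∃ (m n : ℕ) (V : Fin m → C) (U : Fin n → C)
      (ψ : (∐ fun j => ModSite.freeOn O (V j)) ⟶ ∐ fun i => ModSite.freeOn O (U i)),
      (∀ j, V j ∈ B) ∧ (∀ i, U i ∈ B) ∧ Nonempty (F ≅ cokernel ψ) := by
  obtain ⟨I, R, hI, hR, U, V, r, p, hU, hV, hc⟩ := h
  obtain ⟨n, ⟨eI⟩⟩ := Finite.exists_equiv_fin I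
  obtain ⟨m, ⟨eR⟩⟩ := Finite.exists_equiv_fin R
  let iU : (∐ fun i => ModSite.freeOn O (U (eI.symm i))) ≅ Fr O U :=
    Sigma.whiskerEquiv (f := fun i => fOn O (U (eI.symm i))) (g := fun i => fOn O (U i)) eI.symm fun _ => Iso.refl _
  let iV : (∐ fun j => ModSite.freeOn O (V (eR.symm j))) ≅ Fr O V :=
    Sigma.whiskerEquiv (f := fun j => fOn O (V (eR.symm j))) (g := fun j => fOn O (V j)) eR.symm fun _ => Iso.refl _
  refine ⟨m, n, fun j => V (eR.symm j), fun i => U (eI.symm i), iV.hom ≫ r ≫ iU.inv, fun j => hV _, fun i => hU _, ?_⟩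
  haveI := hc.epi
  refine IsCok.nonempty_iso (p := iU.hom ≫ p) ⟨by simp [hc.w], inferInstance, fun M a ha => ?_⟩
  obtain ⟨b, hb⟩ := hc.desc (iU.inv ≫ a) (by
    rw [← cancel_epi iV.hom, comp_zero]
    simpa only [Category.assoc] using ha)
  exact ⟨b, by rw [Category.assoc, hb, iU.hom_inv_id_assoc]⟩

/-- Quotients of finitely presented modules by finitely generated ones. -/
theorem isFP_quotient (hB : Gens J B) (hqc : ∀ U ∈ B, QcObj J U) {X G Q : ModSite.Mod O} (hG : IsFP O B G)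
    (hX : IsFT O B X) {β : X ⟶ G} {c : G ⟶ Q} (hc : IsCok β c) : IsFP O B Q := by
  obtain ⟨I, R, hI, hR, U, V, r, p, hU, hV, hp⟩ := hG
  obtain ⟨K, hK, W, w, hW, hw⟩ := hX
  haveI := hp.epi
  obtain ⟨cv, l, hl⟩ := exists_cov_lift hB (fun k => hqc _ (hW k)) p (w ≫ β)
  haveI : ∀ i, Finite (cv.K i) := cv.fin
  let V' : R ⊕ (Σ k, cv.K k) → C := Sum.elim V cv.flat
  let r' : Fr O V' ⟶ Fr O U := Sigma.desc fun x =>
    match x with
    | Sum.inl j => Sigma.ι (fun j => fOn O (V j)) j ≫ r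
    | Sum.inr y => Sigma.ι (fun y => fOn O (cv.flat y)) y ≫ l
  refine ⟨I, _, hI, inferInstance, U, V', r', p ≫ c, hU, Sum.rec hV fun y => cv.mem _ _, ?_, ?_, ?_⟩
  · refine Sigma.hom_ext _ _ fun x => ?_
    rcases x with j | y
    · simp [r', reassoc_of% hp.w]
    · simp [r', reassoc_of% hl, hc.w]
  · haveI := hc.epi
    infer_instance
  · intro M a ha
    have h1 : r ≫ a = 0 := Sigma.hom_ext _ _ fun j => by
      have := congrArg (fun t => Sigma.ι (fun x => fOn O (V' x)) (Sum.inl j) ≫ t) ha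
      simpa [r'] using this
    have h2 : l ≫ a = 0 := Sigma.hom_ext _ _ fun y => by
      have := congrArg (fun t => Sigma.ι (fun x => fOn O (V' x)) (Sum.inr y) ≫ t) ha
      simpa [r'] using this
    obtain ⟨b, hb⟩ := hp.desc a h1
    obtain ⟨b', hb'⟩ := hc.desc b (by
      rw [← cancel_epi w, ← cancel_epi (cv.q O), comp_zero, comp_zero, ← reassoc_of% hl, hb, h2])
    exact ⟨b', by rw [Category.assoc, hb', hb]⟩

end Pres

end Groth.L15.FPFree
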