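import Groth.Agent.L15.FPFree.Ext
import Mathlib.CategoryTheory.Filtered.Basic

/-! Every module is a filtered colimit of modules finitely presented by free modules on a generating family. -/

set_option autoImplicit false
set_option backward.isDefEq.respectTransparency false

universe u

open CategoryTheory CategoryTheory.Limits Opposite

noncomputable section

namespace Groth.L15.FPFree

open Groth.L15.FlatCrit Groth.L15.LocPres Groth.L15.PullFlat

variable {C : Type u} [SmallCategory C] {J : GrothendieckTopology C} (O : Sheaf J CommRingCat.{u}) (B : Set C)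
  (F : ModSite.Mod O)

/-- A finitely presented module over `F`, by data. -/
structure Idx : Type u where
  /-- number of relations -/
  m : ℕ
  /-- number of generators -/
  n : ℕ
  /-- relations -/
  V : Fin m → C
  /-- generators -/
  U : Fin n → C
  hV : ∀ j, V j ∈ B
  hU : ∀ i, U i ∈ B
  /-- the presentation -/
  ψ : (∐ fun j => ModSite.freeOn O (V j)) ⟶ ∐ fun i => ModSite.freeOn O (U i)
  /-- the structure map -/
  f : cokernel ψ ⟶ F

variable {O B F}

/-- The module of an index. -/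
abbrev Idx.obj (a : Idx O B F) : ModSite.Mod O := cokernel a.ψ

instance : Category.{u} (Idx O B F) where
  Hom a b := {g : a.obj ⟶ b.obj // g ≫ b.f = a.f}
  id a := ⟨𝟙 _, Category.id_comp _⟩
  comp g h := ⟨g.1 ≫ h.1, by rw [Category.assoc, h.2, g.2]⟩
  id_comp g := Subtype.ext (Category.id_comp _)
  comp_id g := Subtype.ext (Category.comp_id _)
  assoc g h k := Subtype.ext (Category.assoc _ _ _)

variable (O B F) in
/-- The diagram of finitely presented modules over `F`. -/
def diag : Idx O B F ⥤ ModSite.Mod O where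
  obj a := a.obj
  map g := g.1

variable (O B F) in
/-- Its cocone. -/
def diagι : diag O B F ⟶ (Functor.const (Idx O B F)).obj F where
  app a := a.f
  naturality a b g := (g.2).trans (Category.comp_id _).symm

theorem Idx.isFP (a : Idx O B F) : IsFP O B a.obj := isFP_of_data a.ψ a.hV a.hU ⟨Iso.refl _⟩

theorem exists_idx {X : ModSite.Mod O} (hX : IsFP O B X) (f : X ⟶ F) :
    ∃ (a : Idx O B F) (e : a.obj ≅ X), e.hom ≫ f = a.f := by
  obtain ⟨m, n, V, U, ψ, hV, hU, ⟨e⟩⟩ := hX.exists_data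
  exact ⟨⟨m, n, V, U, hV, hU, ψ, e.inv ≫ f⟩, e.symm, rfl⟩

theorem isFP_fOn {W : C} (hW : W ∈ B) : IsFP O B (fOn O W) := by
  refine ⟨PUnit, PEmpty, inferInstance, inferInstance, fun _ => W, PEmpty.elim, 0, Sigma.desc fun _ => 𝟙 _,
    fun _ => hW, fun j => j.elim, zero_comp, ?_, fun M a _ => ⟨Sigma.ι (fun _ : PUnit.{u+1} => fOn O W) PUnit.unit ≫ a, ?_⟩⟩
  · haveI : Epi (Sigma.ι (fun _ : PUnit.{u+1} => fOn O W) PUnit.unit ≫ Sigma.desc fun _ => 𝟙 (fOn O W)) := by
      rw [Sigma.ι_desc]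
      infer_instance
    exact epi_of_epi (Sigma.ι (fun _ : PUnit.{u+1} => fOn O W) PUnit.unit) _
  · refine Sigma.hom_ext _ _ fun i => ?_
    simp

variable (hB : Gens J B) (hqc : ∀ U ∈ B, QcObj J U)
include hB hqc

theorem isFiltered_idx : IsFiltered (Idx O B F) := by
  have h0 : IsFP O B (cokernel (0 : Fr O (PEmpty.elim : PEmpty.{u+1} → C) ⟶ Fr O (PEmpty.elim : PEmpty.{u+1} → C))) :=
    ⟨PEmpty, PEmpty, inferInstance, inferInstance, _, _, 0, _, fun i => i.elim, fun i => i.elim, isCok_cokernel 0⟩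
  haveI : Nonempty (Idx O B F) := ⟨(exists_idx h0 0).choose⟩
  haveI : IsFilteredOrEmpty (Idx O B F) :=
    { cocone_objs := fun a b => by
        obtain ⟨c, e, he⟩ := exists_idx (isFP_biprod a.isFP b.isFP) (biprod.desc a.f b.f)
        exact ⟨c, ⟨biprod.inl ≫ e.inv, by rw [← he]; simp⟩, ⟨biprod.inr ≫ e.inv, by rw [← he]; simp⟩, trivial⟩
      cocone_maps := fun a b g h => by
        have hw : (g.1 - h.1) ≫ b.f = 0 := by rw [Preadditive.sub_comp, g.2, h.2, sub_self]
        obtain ⟨c, e, he⟩ := exists_idx (isFP_quotient hB hqc b.isFP a.isFP.isFT (isCok_cokernel (g.1 - h.1)))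
          (cokernel.desc _ b.f hw)
        refine ⟨c, ⟨cokernel.π (g.1 - h.1) ≫ e.inv, by rw [← he]; simp⟩, Subtype.ext ?_⟩
        show g.1 ≫ cokernel.π (g.1 - h.1) ≫ e.inv = h.1 ≫ cokernel.π (g.1 - h.1) ≫ e.inv
        rw [← sub_eq_zero, ← Preadditive.sub_comp, cokernel.condition_assoc, zero_comp] }
  exact ⟨⟩

theorem nonempty_isColimit_idx : Nonempty (IsColimit (Cocone.mk F (diagι O B F))) := by
  haveI := isFiltered_idx (O := O) (F := F) hB hqc
  refine nonempty_isColimit_of _ (fun U x => ?_) fun U a x hx => ?_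
  · obtain ⟨κ, Ys, y, hy, hyB⟩ := hB U
    refine ⟨_, hy, fun V g hg => ?_⟩
    rw [Sieve.ofArrows, Sieve.generate_apply] at hg
    obtain ⟨Z, e, f, ⟨k⟩, rfl⟩ := hg
    obtain ⟨b, i, hi⟩ := exists_idx (isFP_fOn (hyB k)) (secA.symm (rs F (y k) x))
    refine ⟨b, rs _ e (secA i.inv), ?_⟩
    show ap b.f (rs _ e (secA i.inv)) = rs F (e ≫ y k) x
    rw [← rs_ap, ← secA_comp, ← hi, i.inv_hom_id_assoc, AddEquiv.apply_symm_apply, rs_rs]
  · obtain ⟨κ, Ys, y, hy, hyB⟩ := hB U
    refine ⟨_, hy, fun V g hg => ?_⟩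
    rw [Sieve.ofArrows, Sieve.generate_apply] at hg
    obtain ⟨Z, e, f, ⟨k⟩, rfl⟩ := hg
    let t : fOn O (Ys k) ⟶ a.obj := secA.symm (rs a.obj (y k) x)
    have hx' : ap a.f x = 0 := hx
    have hw : t ≫ a.f = 0 := secA.injective (by
      rw [secA_comp, AddEquiv.apply_symm_apply, ← rs_ap, hx', map_zero, map_zero])
    obtain ⟨b, i, hi⟩ := exists_idx (isFP_quotient hB hqc a.isFP (isFP_fOn (hyB k)).isFT (isCok_cokernel t))
      (cokernel.desc t a.f hw)
    refine ⟨b, ⟨cokernel.π t ≫ i.inv, by rw [← hi]; simp⟩, ?_⟩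
    show ap (cokernel.π t ≫ i.inv) (rs a.obj (e ≫ y k) x) = 0
    have h1 : rs a.obj (e ≫ y k) x = rs a.obj e (secA t) := by rw [AddEquiv.apply_symm_apply, rs_rs]
    rw [h1, ← rs_ap, ← secA_comp, cokernel.condition_assoc, zero_comp, map_zero, map_zero]

end Groth.L15.FPFree
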