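import Groth.Agent.L15.FPFree.Basic
import Mathlib.Algebra.Homology.ShortComplex.ShortExact
import Mathlib.CategoryTheory.Limits.Shapes.Pullback.HasPullback

/-! Extensions and kernels of modules finitely presented by free modules on a quasi-compact generating family. -/

set_option autoImplicit false
set_option backward.isDefEq.respectTransparency false

universe u

open CategoryTheory CategoryTheory.Limits Opposite

noncomputable section

namespace Groth.L15.FPFree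

open Groth.L15.FlatCrit Groth.L15.LocPres Groth.L15.PullFlat

variable {C : Type u} [SmallCategory C] {J : GrothendieckTopology C} {O : Sheaf J CommRingCat.{u}}

section Sum

variable {I K : Type u} {U : I → C} {V : K → C}

variable (O) in
/-- A sum of two sums of free modules. -/
abbrev Fr₂ (U : I → C) (V : K → C) : ModSite.Mod O := Fr O (Sum.elim U V)

/-- Left inclusion. -/
def jL : Fr O U ⟶ Fr₂ O U V := Sigma.desc fun i => Sigma.ι (fun x => fOn O (Sum.elim U V x)) (Sum.inl i)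

/-- Right inclusion. -/
def jR : Fr O V ⟶ Fr₂ O U V := Sigma.desc fun k => Sigma.ι (fun x => fOn O (Sum.elim U V x)) (Sum.inr k)

/-- Copairing. -/
def sdesc {M : ModSite.Mod O} (a : Fr O U ⟶ M) (b : Fr O V ⟶ M) : Fr₂ O U V ⟶ M :=
  Sigma.desc fun x => match x with
    | Sum.inl i => Sigma.ι (fun i => fOn O (U i)) i ≫ a
    | Sum.inr k => Sigma.ι (fun k => fOn O (V k)) k ≫ b

@[reassoc (attr := simp)]
theorem jL_sdesc {M : ModSite.Mod O} (a : Fr O U ⟶ M) (b : Fr O V ⟶ M) : jL ≫ sdesc a b = a :=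
  Sigma.hom_ext _ _ fun i => by simp [jL, sdesc]

@[reassoc (attr := simp)]
theorem jR_sdesc {M : ModSite.Mod O} (a : Fr O U ⟶ M) (b : Fr O V ⟶ M) : jR ≫ sdesc a b = b :=
  Sigma.hom_ext _ _ fun i => by simp [jR, sdesc]

theorem sum_hom_ext {M : ModSite.Mod O} {a b : Fr₂ O U V ⟶ M} (h₁ : jL ≫ a = jL ≫ b) (h₂ : jR ≫ a = jR ≫ b) :
    a = b := by
  refine Sigma.hom_ext _ _ fun x => ?_
  rcases x with i | k
  · simpa [jL] using congrArg (fun t => Sigma.ι (fun i => fOn O (U i)) i ≫ t) h₁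
  · simpa [jR] using congrArg (fun t => Sigma.ι (fun i => fOn O (V i)) k ≫ t) h₂

/-- Left projection. -/
def prL : Fr₂ O U V ⟶ Fr O U := sdesc (𝟙 _) 0

/-- Right projection. -/
def prR : Fr₂ O U V ⟶ Fr O V := sdesc 0 (𝟙 _)

theorem sdesc_eq {M : ModSite.Mod O} (a : Fr O U ⟶ M) (b : Fr O V ⟶ M) : sdesc a b = prL ≫ a + prR ≫ b := by
  apply sum_hom_ext <;> simp [prL, prR, Preadditive.comp_add]

theorem sum_id : prL ≫ jL + prR ≫ jR = 𝟙 (Fr₂ O U V) := by
  apply sum_hom_ext <;> simp [prL, prR, Preadditive.comp_add]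

end Sum

variable {B : Set C}

theorem isFT_fr {I : Type u} [Finite I] {U : I → C} (hU : ∀ i, U i ∈ B) : IsFT O B (Fr O U) :=
  ⟨I, inferInstance, U, 𝟙 _, hU, inferInstance⟩

theorem isFT_fr₂ {I K : Type u} [Finite I] [Finite K] {U : I → C} {V : K → C} (hU : ∀ i, U i ∈ B)
    (hV : ∀ k, V k ∈ B) : IsFT O B (Fr₂ O U V) :=
  isFT_fr (U := Sum.elim U V) fun x => Sum.rec (motive := fun x => Sum.elim U V x ∈ B) hU hV x

theorem isFP_biprod {X Y : ModSite.Mod O} (hX : IsFP O B X) (hY : IsFP O B Y) : IsFP O B (X ⊞ Y) := by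
  obtain ⟨I, R, _, _, U, V, r, p, hU, hV, hp⟩ := hX
  obtain ⟨I', R', _, _, U', V', r', p', hU', hV', hp'⟩ := hY
  haveI := hp.epi
  haveI := hp'.epi
  refine ⟨I ⊕ I', R ⊕ R', inferInstance, inferInstance, Sum.elim U U', Sum.elim V V',
    sdesc (r ≫ jL) (r' ≫ jR), sdesc (p ≫ biprod.inl) (p' ≫ biprod.inr), fun x => ?_, fun x => ?_, ?_, ?_, ?_⟩
  · exact Sum.rec (motive := fun x => Sum.elim U U' x ∈ B) hU hU' x
  · exact Sum.rec (motive := fun x => Sum.elim V V' x ∈ B) hV hV' x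
  · apply sum_hom_ext <;> simp [reassoc_of% hp.w, reassoc_of% hp'.w]
  · refine ⟨fun {M} a b h => ?_⟩
    have h1 := congrArg (fun t => jL ≫ t) h
    have h2 := congrArg (fun t => jR ≫ t) h
    simp only [jL_sdesc_assoc, jR_sdesc_assoc, Category.assoc] at h1 h2
    exact biprod.hom_ext' _ _ ((cancel_epi p).1 h1) ((cancel_epi p').1 h2)
  · intro M a ha
    obtain ⟨b, hb⟩ := hp.desc (jL ≫ a) (by simpa using congrArg (fun t => jL ≫ t) ha)
    obtain ⟨b', hb'⟩ := hp'.desc (jR ≫ a) (by simpa using congrArg (fun t => jR ≫ t) ha)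
    exact ⟨biprod.desc b b', by apply sum_hom_ext <;> simp [hb, hb']⟩

section Overlap

variable (hB : Gens J B) (hqc : ∀ U ∈ B, QcObj J U) [HasPullbacks C]
  (hqc₂ : ∀ (U U₁ U₂ : C) (f₁ : U₁ ⟶ U) (f₂ : U₂ ⟶ U), U ∈ B → U₁ ∈ B → U₂ ∈ B → QcObj J (pullback f₁ f₂))

include hB hqc₂ in
/-- The relations of a finite covering. -/
theorem exists_cover_rel {I : Type u} [Finite I] {U : I → C} (hU : ∀ i, U i ∈ B) (c : Cov J B U) :
    ∃ (S : Type u) (_ : Finite S) (V : S → C) (s : Fr O V ⟶ Fr O c.flat), (∀ j, V j ∈ B) ∧ IsCok s (c.q O) := by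
  haveI : ∀ i, Finite (c.K i) := c.fin
  let P : (Σ i, c.K i × c.K i) → C := fun x => pullback (c.h x.1 x.2.1) (c.h x.1 x.2.2)
  choose Kp fKp Wp hp hWp _hS hcov using fun x : (Σ i, c.K i × c.K i) =>
    exists_finite_cover hB (hqc₂ _ _ _ (c.h x.1 x.2.1) (c.h x.1 x.2.2) (hU _) (c.mem _ _) (c.mem _ _)) ⊤ (J.top_mem (P x))
  haveI := fKp
  let fl := fun y : (Σ i, c.K i) => fOn O (c.flat y)
  refine ⟨Σ x, Kp x, inferInstance, fun z => Wp z.1 z.2,
    Sigma.desc fun z => resMap (hp z.1 z.2 ≫ pullback.fst _ _) ≫ Sigma.ι fl ⟨z.1.1, z.1.2.1⟩ -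
      resMap (hp z.1 z.2 ≫ pullback.snd _ _) ≫ Sigma.ι fl ⟨z.1.1, z.1.2.2⟩, fun z => hWp _ _, ?_, inferInstance, ?_⟩
  · refine fr_hom_ext _ _ fun z => ?_
    simp only [Sigma.ι_desc_assoc, Preadditive.sub_comp, Category.assoc, comp_zero, map_sub, map_zero, sub_eq_zero,
      secA_resMap]
    rw [← Category.comp_id (c.q O), Cov.secA_q c (𝟙 _) ⟨z.1.1, z.1.2.1⟩, Cov.secA_q c (𝟙 _) ⟨z.1.1, z.1.2.2⟩,
      rs_rs, rs_rs, Category.assoc, Category.assoc, pullback.condition]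
  · intro M a ha
    let x : ∀ i k, ModSite.sect M (c.W i k) := fun i k => secA (Sigma.ι fl ⟨i, k⟩ ≫ a)
    have hag : ∀ (i : I) (k l : c.K i) (V : C) (e₁ : V ⟶ c.W i k) (e₂ : V ⟶ c.W i l),
        e₁ ≫ c.h i k = e₂ ≫ c.h i l → rs M e₁ (x i k) = rs M e₂ (x i l) := by
      intro i k l V e₁ e₂ he
      have hP : rs M (pullback.fst (c.h i k) (c.h i l)) (x i k) = rs M (pullback.snd (c.h i k) (c.h i l)) (x i l) := by
        refine Groth.L15.ExtSupp.sect_ext M _ (hcov ⟨i, k, l⟩) _ _ fun W g hg => ?_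
        rw [Sieve.ofArrows, Sieve.generate_apply] at hg
        obtain ⟨Y, e, f, ⟨z⟩, rfl⟩ := hg
        show rs M _ _ = rs M _ _
        have h0 := congrArg (fun t => secA (Sigma.ι (fun z : (Σ x, Kp x) => fOn O (Wp z.1 z.2)) ⟨⟨i, k, l⟩, z⟩ ≫ t)) ha
        simp only [Sigma.ι_desc_assoc, Preadditive.sub_comp, Category.assoc, comp_zero, map_sub, map_zero,
          sub_eq_zero, secA_resMap] at h0
        have h1 := congrArg (rs M e) h0
        simp only [rs_rs, Category.assoc] at h1 ⊢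
        exact h1
      have := congrArg (rs M (pullback.lift e₁ e₂ he)) hP
      rwa [rs_rs, rs_rs, pullback.lift_fst, pullback.lift_snd] at this
    have hglue : ∀ i, ∃ y : ModSite.sect M (U i), ∀ k, rs M (c.h i k) y = x i k := by
      intro i
      have hsp : ∀ ⦃V : C⦄ (g : V ⟶ U i), Sieve.ofArrows (c.W i) (c.h i) g → ∃ (k : c.K i) (e : V ⟶ c.W i k), e ≫ c.h i k = g := by
        intro V g hg
        rw [Sieve.ofArrows, Sieve.generate_apply] at hg
        obtain ⟨Y, e, f, ⟨k⟩, rfl⟩ := hg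
        exact ⟨k, e, rfl⟩
      choose k e hke using hsp
      obtain ⟨y, hy⟩ := sect_glue M _ (c.cover i) (fun V g hg => rs M (e g hg) (x i (k g hg))) (by
        intro V W g hg r
        rw [rs_rs]
        refine hag i _ _ W _ _ ?_
        rw [Category.assoc, hke, hke])
      refine ⟨y, fun l => (hy _ (Sieve.ofArrows_mk _ _ l)).trans ?_⟩
      refine (hag i _ l _ _ (𝟙 _) ?_).trans (rs_id _)
      rw [hke, Category.id_comp]
    choose y hy using hglue
    refine ⟨Sigma.desc fun i => secA.symm (y i), fr_hom_ext _ _ fun z => ?_⟩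
    rw [Cov.secA_q, Sigma.ι_desc, AddEquiv.apply_symm_apply, hy]

include hB hqc hqc₂

/-- Presentations can be refined along finite coverings of the generators. -/
theorem exists_refine {F : ModSite.Mod O} {I R : Type u} [Finite I] [Finite R] {U : I → C} {V : R → C}
    {r : Fr O V ⟶ Fr O U} {p : Fr O U ⟶ F} (hU : ∀ i, U i ∈ B) (hV : ∀ j, V j ∈ B) (hp : IsCok r p)
    (c : Cov J B U) :
    ∃ (R' : Type u) (_ : Finite R') (V' : R' → C) (r' : Fr O V' ⟶ Fr O c.flat),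
      (∀ j, V' j ∈ B) ∧ IsCok r' (c.q O ≫ p) := by
  obtain ⟨S, _, Vs, s, hVs, hs⟩ := exists_cover_rel hB hqc₂ hU c (O := O)
  haveI := hs.epi
  haveI := hp.epi
  obtain ⟨c', l, hl⟩ := exists_cov_lift hB (fun j => hqc _ (hV j)) (c.q O) r
  haveI : ∀ i, Finite (c'.K i) := c'.fin
  refine ⟨S ⊕ Σ j, c'.K j, inferInstance, Sum.elim Vs c'.flat, sdesc s l,
    fun x => Sum.rec (motive := fun x => Sum.elim Vs c'.flat x ∈ B) hVs (fun y => c'.mem _ _) x, ?_, inferInstance, ?_⟩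
  · apply sum_hom_ext
    · simp [reassoc_of% hs.w]
    · simp [reassoc_of% hl, hp.w]
  · intro M a ha
    obtain ⟨b, hb⟩ := hs.desc a (by simpa using congrArg (fun t => jL ≫ t) ha)
    have hl0 : l ≫ a = 0 := by simpa using congrArg (fun t => jR ≫ t) ha
    obtain ⟨b', hb'⟩ := hp.desc b (by rw [← cancel_epi (c'.q O), comp_zero, ← reassoc_of% hl, hb, hl0])
    exact ⟨b', by rw [Category.assoc, hb', hb]⟩

/-- Extensions. -/
theorem isFP_extension (S : ShortComplex (ModSite.Mod O)) (hS : S.ShortExact) (h₁ : IsFP O B S.X₁)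
    (h₃ : IsFP O B S.X₃) : IsFP O B S.X₂ := by
  obtain ⟨I₁, R₁, _, _, U₁, V₁, r₁, p₁, hU₁, hV₁, hp₁⟩ := h₁
  obtain ⟨I₃, R₃, _, _, U₃, V₃, r₃, p₃, hU₃, hV₃, hp₃⟩ := h₃
  haveI := hp₁.epi
  haveI := hp₃.epi
  haveI := hS.mono_f
  haveI := hS.epi_g
  obtain ⟨c, l, hl⟩ := exists_cov_lift hB (fun i => hqc _ (hU₃ i)) S.g p₃
  haveI : ∀ i, Finite (c.K i) := c.fin
  obtain ⟨R, _, V, r, hV, hr⟩ := exists_refine hB hqc hqc₂ hU₃ hV₃ hp₃ c
  have hrl : (r ≫ l) ≫ S.g = 0 := by rw [Category.assoc, hl]; exact hr.w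
  let t' : Fr O V ⟶ S.X₁ := hS.exact.lift (r ≫ l) hrl
  have ht' : t' ≫ S.f = r ≫ l := hS.exact.lift_f _ _
  obtain ⟨c', t, ht⟩ := exists_cov_lift hB (fun j => hqc _ (hV j)) p₁ t'
  haveI : ∀ i, Finite (c'.K i) := c'.fin
  let rel : Fr₂ O V₁ c'.flat ⟶ Fr₂ O U₁ c.flat := sdesc (r₁ ≫ jL) (c'.q O ≫ r ≫ jR - t ≫ jL)
  let p : Fr₂ O U₁ c.flat ⟶ S.X₂ := sdesc (p₁ ≫ S.f) l
  have hw : rel ≫ p = 0 := by
    apply sum_hom_ext
    · simp [rel, p, reassoc_of% hp₁.w]
    · simp [rel, p, Preadditive.sub_comp, reassoc_of% ht, ht']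
  let Q := cokernel rel
  let π := cokernel.π rel
  obtain ⟨f', hf'⟩ := hp₁.desc (jL ≫ π) (by
    have e : (r₁ ≫ jL) ≫ π = (jL ≫ rel) ≫ π := by simp only [rel, jL_sdesc]
    rw [← Category.assoc, e, Category.assoc, cokernel.condition, comp_zero])
  let m : Q ⟶ S.X₂ := cokernel.desc rel p hw
  have hm : f' ≫ m = S.f := by
    rw [← cancel_epi p₁, reassoc_of% hf']
    simp [m, π, p]
  let g' : Q ⟶ S.X₃ := m ≫ S.g
  have hz : f' ≫ g' = 0 := by simp [g', reassoc_of% hm]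
  let S' : ShortComplex (ModSite.Mod O) := ShortComplex.mk f' g' hz
  have hrp : jR ≫ π ≫ g' = c.q O ≫ p₃ := by simp [π, g', m, p, hl]
  haveI : Epi g' := by
    haveI : Epi (jR ≫ π ≫ g') := by
      rw [hrp]
      infer_instance
    exact epi_of_epi (jR ≫ π) g' |> fun _ => by
      haveI : Epi ((jR ≫ π) ≫ g') := by simpa using (inferInstance : Epi (jR ≫ π ≫ g'))
      exact epi_of_epi (jR ≫ π) g'
  haveI : Mono f' := by
    haveI : Mono (f' ≫ m) := by rw [hm]; infer_instance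
    exact mono_of_mono f' m
  have hex : S'.Exact := by
    have key : ∀ ⦃M : ModSite.Mod O⦄ (a : Q ⟶ M), f' ≫ a = 0 → ∃ b : S.X₃ ⟶ M, g' ≫ b = a := by
      intro M a ha
      have hL : jL ≫ π ≫ a = 0 := by rw [← reassoc_of% hf', ha, comp_zero]
      have hR : c'.q O ≫ r ≫ jR ≫ π ≫ a = 0 := by
        have h0 : (jR ≫ rel) ≫ π ≫ a = 0 := by
          rw [Category.assoc, cokernel.condition_assoc, zero_comp, comp_zero]
        simp only [rel, jR_sdesc] at h0
        simpa [Preadditive.sub_comp, hL] using h0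
      obtain ⟨b, hb⟩ := hr.desc (jR ≫ π ≫ a) (by rwa [← cancel_epi (c'.q O), comp_zero])
      refine ⟨b, (cancel_epi π).1 (sum_hom_ext ?_ ?_)⟩
      · rw [hL, ← reassoc_of% hf', reassoc_of% hz, zero_comp, comp_zero]
      · rw [reassoc_of% hrp]
        simpa only [Category.assoc] using hb
    exact ShortComplex.exact_of_g_is_cokernel _ (CokernelCofork.IsColimit.ofπ g' hz
      (fun a ha => (key a ha).choose) (fun a ha => (key a ha).choose_spec) fun a ha m' hm' => by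
        rw [← cancel_epi g', (key a ha).choose_spec, hm'])
  have hS' : S'.ShortExact := { exact := hex, mono_f := inferInstanceAs (Mono f'), epi_g := inferInstanceAs (Epi g') }
  let φ : S' ⟶ S := { τ₁ := 𝟙 _, τ₂ := m, τ₃ := 𝟙 _, comm₁₂ := by simp [S', hm], comm₂₃ := by simp [S', g'] }
  haveI : IsIso φ.τ₁ := inferInstanceAs (IsIso (𝟙 _))
  haveI : IsIso φ.τ₃ := inferInstanceAs (IsIso (𝟙 _))
  haveI : IsIso φ.τ₂ := ShortComplex.isIso₂_of_shortExact_of_isIso₁₃ φ hS' hS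
  exact ⟨_, _, inferInstance, inferInstance, Sum.elim U₁ c.flat, Sum.elim V₁ c'.flat, rel, π ≫ (asIso φ.τ₂).hom,
    fun x => Sum.rec (motive := fun x => Sum.elim U₁ c.flat x ∈ B) hU₁ (fun y => c.mem _ _) x,
    fun x => Sum.rec (motive := fun x => Sum.elim V₁ c'.flat x ∈ B) hV₁ (fun y => c'.mem _ _) x,
    (isCok_cokernel rel).comp_iso _⟩

variable (hker : ∀ (m n : ℕ) (V : Fin m → C) (U : Fin n → C)
      (φ : (∐ fun j => ModSite.freeOn O (V j)) ⟶ ∐ fun i => ModSite.freeOn O (U i)),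
      (∀ j, V j ∈ B) → (∀ i, U i ∈ B) → IsFP O B (kernel φ))
include hker

omit hB hqc hqc₂ [HasPullbacks C] in
theorem isFP_kernel_fr {I R : Type u} [Finite I] [Finite R] {U : I → C} {V : R → C} (φ : Fr O V ⟶ Fr O U)
    (hV : ∀ j, V j ∈ B) (hU : ∀ i, U i ∈ B) : IsFP O B (kernel φ) := by
  obtain ⟨n, ⟨eI⟩⟩ := Finite.exists_equiv_fin I
  obtain ⟨m, ⟨eR⟩⟩ := Finite.exists_equiv_fin R
  let iU : (∐ fun i => ModSite.freeOn O (U (eI.symm i))) ≅ Fr O U :=
    Sigma.whiskerEquiv (f := fun i => fOn O (U (eI.symm i))) (g := fun i => fOn O (U i)) eI.symm fun _ => Iso.refl _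
  let iV : (∐ fun j => ModSite.freeOn O (V (eR.symm j))) ≅ Fr O V :=
    Sigma.whiskerEquiv (f := fun j => fOn O (V (eR.symm j))) (g := fun j => fOn O (V j)) eR.symm fun _ => Iso.refl _
  exact (hker m n (fun j => V (eR.symm j)) (fun i => U (eI.symm i)) (iV.hom ≫ φ ≫ iU.inv) (fun j => hV _) fun i => hU _).of_iso
    (kernel.mapIso _ φ iV iU (by simp))

/-- Kernels. -/
theorem isFP_kernel {F G : ModSite.Mod O} (α : F ⟶ G) (hF : IsFP O B F) (hG : IsFP O B G) :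
    IsFP O B (kernel α) := by
  obtain ⟨I₁, R₁, _, _, U₁, V₁, r₁, p₁, hU₁, hV₁, hp₁⟩ := hF
  obtain ⟨I, R, _, _, U, V, rG, pG, hU, hV, hG⟩ := hG
  haveI := hp₁.epi
  haveI := hG.epi
  obtain ⟨c, l, hl⟩ := exists_cov_lift hB (fun i => hqc _ (hU₁ i)) pG (p₁ ≫ α)
  haveI : ∀ i, Finite (c.K i) := c.fin
  obtain ⟨R', _, V', r', hV', hr'⟩ := exists_refine hB hqc hqc₂ hU₁ hV₁ hp₁ c
  haveI := hr'.epi
  have hl' : l ≫ pG = (c.q O ≫ p₁) ≫ α := by rw [hl, Category.assoc]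
  let p' : Fr O c.flat ⟶ F := c.q O ≫ p₁
  let D : Fr₂ O c.flat V ⟶ Fr O U := sdesc l rG
  have hK₀ : IsFP O B (kernel D) := isFP_kernel_fr hker D
    (fun x => Sum.rec (motive := fun x => Sum.elim c.flat V x ∈ B) (fun y => c.mem _ _) hV x) hU
  have hπ₀ : (kernel.ι D ≫ prL ≫ p') ≫ α = 0 := by
    have h0 := congrArg (fun t => t ≫ pG) (kernel.condition D)
    simpa [D, sdesc_eq, Preadditive.comp_add, Preadditive.add_comp, hl', hG.w, p'] using h0
  let π : kernel D ⟶ kernel α := kernel.lift α _ hπ₀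
  haveI : Epi π := by
    rw [epi_iff_surjective_up_to_refinements]
    intro A y
    obtain ⟨A₁, e₁, _, g, hg⟩ := surjective_up_to_refinements_of_epi p' (y ≫ kernel.ι α)
    have hg0 : (g ≫ l) ≫ pG = 0 := by
      rw [Category.assoc, hl', ← Category.assoc, ← hg]
      simp
    obtain ⟨A₂, e₂, _, h, hh⟩ := hG.exact.exact_up_to_refinements (g ≫ l) hg0
    refine ⟨A₂, e₂ ≫ e₁, inferInstance, kernel.lift D ((e₂ ≫ g) ≫ jL - h ≫ jR) ?_, ?_⟩
    · simp only [D, Preadditive.sub_comp, Category.assoc, jL_sdesc, jR_sdesc]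
      exact sub_eq_zero.2 hh
    · rw [← cancel_mono (kernel.ι α)]
      simp only [π, Category.assoc, kernel.lift_ι, hg]
      simp [prL, Preadditive.sub_comp, p']
  have hz : (r' ≫ l) ≫ pG = 0 := by rw [Category.assoc, hl', ← Category.assoc, hr'.w, zero_comp]
  haveI : Epi (kernel.lift pG rG hG.w) := (ShortComplex.exact_iff_epi_kernel_lift _).1 hG.exact
  obtain ⟨c', h, hh⟩ := exists_cov_lift hB (fun j => hqc _ (hV' j)) (kernel.lift pG rG hG.w)
    (kernel.lift pG (r' ≫ l) hz)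
  have hh' : h ≫ rG = c'.q O ≫ r' ≫ l := by
    have := congrArg (fun t => t ≫ kernel.ι pG) hh
    simpa using this
  haveI : ∀ i, Finite (c'.K i) := c'.fin
  obtain ⟨Ik, _, Uk, pk, hUk, hpk⟩ := (isFP_kernel_fr hker rG hV hU).isFT
  let β₁ : Fr O c'.flat ⟶ kernel D := kernel.lift D (c'.q O ≫ r' ≫ jL - h ≫ jR) (by simp [D, Preadditive.sub_comp, hh'])
  let β₂ : Fr O Uk ⟶ kernel D := kernel.lift D (pk ≫ kernel.ι rG ≫ jR) (by simp [D])
  let β : Fr₂ O c'.flat Uk ⟶ kernel D := sdesc β₁ β₂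
  have hw : β ≫ π = 0 := by
    have hq : r' ≫ p' = 0 := hr'.w
    apply sum_hom_ext <;> rw [← cancel_mono (kernel.ι α)] <;>
      simp [β, β₁, β₂, π, prL, Preadditive.sub_comp, hq]
  have hex : (ShortComplex.mk β π hw).Exact := by
    rw [ShortComplex.exact_iff_exact_up_to_refinements]
    intro A (z : A ⟶ kernel D) hz0
    have hg : (z ≫ kernel.ι D ≫ prL) ≫ p' = 0 := by
      have h0 := congrArg (fun t => t ≫ kernel.ι α) (show z ≫ π = 0 from hz0)
      simpa [π] using h0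
    obtain ⟨A₁, e₁, _, v, hv⟩ := hr'.exact.exact_up_to_refinements _ hg
    obtain ⟨A₂, e₂, _, v', hv'⟩ := surjective_up_to_refinements_of_epi (c'.q O) v
    let w : A₂ ⟶ Fr₂ O c.flat V := (e₂ ≫ e₁ ≫ z) ≫ kernel.ι D - v' ≫ β₁ ≫ kernel.ι D
    have hwL : w ≫ prL = 0 := by
      have h1 : e₂ ≫ e₁ ≫ z ≫ kernel.ι D ≫ prL = v' ≫ c'.q O ≫ r' := by
        rw [hv, ← reassoc_of% hv']
      simp [w, β₁, prL, Preadditive.sub_comp] at h1 ⊢
      rw [sub_eq_zero]
      exact h1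
    have hwR : w = (w ≫ prR) ≫ jR := by
      have h1 := congrArg (fun t => w ≫ t) (sum_id (O := O) (U := c.flat) (V := V))
      simp only [Preadditive.comp_add, Category.comp_id, reassoc_of% hwL, zero_comp, zero_add] at h1
      rw [Category.assoc]
      exact h1.symm
    have hu0 : (w ≫ prR) ≫ rG = 0 := by
      have h1 : w ≫ D = 0 := by simp [w, Preadditive.sub_comp]
      rw [hwR] at h1
      simpa [D] using h1
    obtain ⟨A₃, e₃, _, u, hu⟩ := surjective_up_to_refinements_of_epi pk (kernel.lift rG _ hu0)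
    refine ⟨A₃, e₃ ≫ e₂ ≫ e₁, inferInstance, (e₃ ≫ v') ≫ jL + u ≫ jR, ?_⟩
    show (e₃ ≫ e₂ ≫ e₁) ≫ z = ((e₃ ≫ v') ≫ jL + u ≫ jR) ≫ β
    rw [← cancel_mono (kernel.ι D)]
    have hu' : u ≫ β₂ ≫ kernel.ι D = e₃ ≫ w := by
      have h1 := congrArg (fun t : A₃ ⟶ kernel rG => t ≫ kernel.ι rG ≫ (jR : Fr O V ⟶ Fr₂ O c.flat V)) hu
      simp only [Category.assoc, kernel.lift_ι_assoc] at h1
      rw [hwR, kernel.lift_ι]
      simp only [Category.assoc]
      exact h1.symm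
    simp only [β, Preadditive.add_comp, Category.assoc, jL_sdesc_assoc, jR_sdesc_assoc, hu']
    simp [w, Preadditive.comp_sub]
  refine isFP_quotient hB hqc hK₀ (isFT_fr₂ (fun y => c'.mem _ _) hUk) (β := β) (c := π) ⟨hw, inferInstance, fun M a ha => ?_⟩
  exact ⟨hex.desc a ha, hex.g_desc a ha⟩

end Overlap

end Groth.L15.FPFree
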